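import Mathlib

/-! Helper8: ultrametric non-vanishing of sums with pairwise distinct valuations. -/

set_option autoImplicit false

namespace Groth.Agent.H8.Abh2

theorem sum_ne_zero_of_injOn {R Γ : Type*} [Ring R] [LinearOrderedCommGroupWithZero Γ]
    (v : Valuation R Γ) {ι : Type*} (s : Finset ι) (hs : s.Nonempty) (f : ι → R)
    (hne : ∀ i ∈ s, v (f i) ≠ 0) (hinj : Set.InjOn (fun i => v (f i)) (s : Set ι)) :
    ∑ i ∈ s, f i ≠ 0 := by
  classical
  obtain ⟨i₀, hi₀, hmax⟩ := Finset.exists_max_image s (fun i => v (f i)) hs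
  have h1 : ∀ j ∈ s.erase i₀, v (f j) < v (f i₀) := by
    intro j hj
    rw [Finset.mem_erase] at hj
    refine lt_of_le_of_ne (hmax j hj.2) ?_
    intro heq
    exact hj.1 (hinj hj.2 hi₀ heq)
  have h2 : v (∑ j ∈ s.erase i₀, f j) < v (f i₀) := v.map_sum_lt (hne i₀ hi₀) h1
  have h3 : v (∑ i ∈ s, f i) = v (f i₀) := by
    rw [← Finset.add_sum_erase s f hi₀]
    exact v.map_add_eq_of_lt_left h2
  intro h0
  rw [h0, map_zero] at h3
  exact hne i₀ hi₀ h3.symm

end Groth.Agent.H8.Abh2
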