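import Mathlib
import Groth.Agent.Lib.Helper8.Abh2.Ultra

/-! Helper8: Abhyankar inequality, residue part. -/

set_option autoImplicit false
universe u

namespace Groth.Agent.H8.Abh2

open MvPolynomial IsLocalRing

variable {K L Γ₀ Γ₁ : Type u} [Field K] [Field L] [Algebra K L]
    [LinearOrderedCommGroupWithZero Γ₀] [LinearOrderedCommGroupWithZero Γ₁]
    (vK : Valuation K Γ₀) (vL : Valuation L Γ₁) [vK.HasExtension vL]

lemma vL_eq_one_of_residue_ne_zero (z : vL.valuationSubring)
    (hz : residue vL.valuationSubring z ≠ 0) : vL (z : L) = 1 := by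
  have h1 : IsUnit z := by
    by_contra hnu
    exact hz ((residue_eq_zero_iff z).mpr ((mem_maximalIdeal z).mpr hnu))
  have h2 := (ValuationSubring.valuation_eq_one_iff vL.valuationSubring z).mp h1
  exact ((Valuation.isEquiv_iff_val_eq_one).mp
    (Valuation.isEquiv_valuation_valuationSubring vL)).mpr h2

variable {κ : Type*} (y : κ → vL.valuationSubring)

/-- evaluation over the valuation rings -/
noncomputable def evalInt : MvPolynomial κ vK.valuationSubring →+* vL.valuationSubring :=
  eval₂Hom (algebraMap vK.valuationSubring vL.valuationSubring) y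

lemma coe_evalInt (q₀ : MvPolynomial κ vK.valuationSubring) :
    ((evalInt vK vL y q₀ : vL.valuationSubring) : L) =
      aeval (fun j => (y j : L)) (map (algebraMap vK.valuationSubring K) q₀) := by
  have : (vL.valuationSubring.subtype.comp (evalInt vK vL y)) =
      ((aeval (fun j => (y j : L)) : MvPolynomial κ K →ₐ[K] L).toRingHom.comp
        (map (algebraMap vK.valuationSubring K))) := by
    apply MvPolynomial.ringHom_ext
    · intro r
      simp [evalInt, Valuation.HasExtension.coe_algebraMap_valuationSubring_eq]
    · intro j
      simp [evalInt]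
  exact congrArg (fun φ => φ q₀) this

lemma residue_evalInt (q₀ : MvPolynomial κ vK.valuationSubring) :
    residue vL.valuationSubring (evalInt vK vL y q₀) =
      aeval (fun j => residue vL.valuationSubring (y j))
        (map (residue vK.valuationSubring) q₀) := by
  have : ((residue vL.valuationSubring).comp (evalInt vK vL y)) =
      ((aeval (fun j => residue vL.valuationSubring (y j)) :
        MvPolynomial κ (ResidueField vK.valuationSubring) →ₐ[_] _).toRingHom.comp
        (map (residue vK.valuationSubring))) := by
    apply MvPolynomial.ringHom_ext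
    · intro r
      simp [evalInt]
    · intro j
      simp [evalInt]
  exact congrArg (fun φ => φ q₀) this

/-- the value of a nonzero polynomial in residually independent integral elements lies in the
value group of `K`. -/
theorem exists_val_aeval_eq
    (hy : AlgebraicIndependent (ResidueField vK.valuationSubring)
      (fun j => residue vL.valuationSubring (y j)))
    (q : MvPolynomial κ K) (hq : q ≠ 0) :
    ∃ c : K, c ≠ 0 ∧ vL (aeval (fun j => (y j : L)) q) = vL (algebraMap K L c) := by
  classical
  have hsupp : q.support.Nonempty := by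
    rw [Finset.nonempty_iff_ne_empty, Ne, MvPolynomial.support_eq_empty]
    exact hq
  obtain ⟨m, hm, hmax⟩ := Finset.exists_max_image q.support (fun m' => vK (coeff m' q)) hsupp
  set c := coeff m q with hc
  have hc0 : c ≠ 0 := MvPolynomial.mem_support_iff.mp hm
  have hle : ∀ m', vK (c⁻¹ * coeff m' q) ≤ 1 := by
    intro m'
    rw [map_mul, map_inv₀]
    have hvc : vK c ≠ 0 := (Valuation.ne_zero_iff vK).mpr hc0
    rw [inv_mul_le_iff₀ (zero_lt_iff.mpr hvc), mul_one]
    by_cases hm' : m' ∈ q.support
    · exact hmax m' hm'
    · rw [MvPolynomial.notMem_support_iff.mp hm', map_zero]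
      exact zero_le
  let g : (κ →₀ ℕ) → vK.valuationSubring := fun m' => ⟨c⁻¹ * coeff m' q, hle m'⟩
  let q₀ : MvPolynomial κ vK.valuationSubring := ∑ m' ∈ q.support, monomial m' (g m')
  have hq₀ : map (algebraMap vK.valuationSubring K) q₀ = C c⁻¹ * q := by
    simp only [q₀, map_sum, map_monomial]
    conv_rhs => rw [q.as_sum, Finset.mul_sum]
    refine Finset.sum_congr rfl fun m' _ => ?_
    rw [C_mul_monomial]
    rfl
  have hcoeff : coeff m (map (residue vK.valuationSubring) q₀) = 1 := by
    simp only [q₀, map_sum, map_monomial, coeff_sum, coeff_monomial]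
    rw [Finset.sum_eq_single m]
    · rw [if_pos rfl]
      have : g m = 1 := by
        apply Subtype.ext
        change c⁻¹ * coeff m q = 1
        rw [← hc, inv_mul_cancel₀ hc0]
      rw [this, map_one]
    · intro b _ hb
      rw [if_neg hb]
    · intro h
      exact absurd hm h
  have hne : map (residue vK.valuationSubring) q₀ ≠ 0 := by
    intro h0
    rw [h0, coeff_zero] at hcoeff
    exact zero_ne_one hcoeff
  have h1 : residue vL.valuationSubring (evalInt vK vL y q₀) ≠ 0 := by
    rw [residue_evalInt]
    intro h0
    exact hne ((algebraicIndependent_iff.mp hy) _ h0)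
  have h2 := vL_eq_one_of_residue_ne_zero vL _ h1
  rw [coe_evalInt, hq₀, map_mul, aeval_C, map_mul] at h2
  refine ⟨c, hc0, ?_⟩
  have hvc : vL (algebraMap K L c) ≠ 0 := by
    rw [Valuation.ne_zero_iff]
    exact (map_ne_zero_iff _ (algebraMap K L).injective).mpr hc0
  rw [map_inv₀, map_inv₀] at h2
  rw [inv_mul_eq_one₀ hvc] at h2
  exact h2.symm

end Groth.Agent.H8.Abh2
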