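import Mathlib
import Groth.Agent.Lib.Helper8.Abh2.Res

/-! Helper8: Abhyankar inequality, value group part and the independence statement. -/

set_option autoImplicit false
universe u

namespace Groth.Agent.H8.Abh2

open MvPolynomial IsLocalRing

variable {K L Γ₀ Γ₁ : Type u} [Field K] [Field L] [Algebra K L]
    [LinearOrderedCommGroupWithZero Γ₀] [LinearOrderedCommGroupWithZero Γ₁]
    (vK : Valuation K Γ₀) (vL : Valuation L Γ₁) [vK.HasExtension vL]

/-- the subgroup generated by units of the valuation ring and `K^×` -/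
noncomputable abbrev HH : Subgroup Lˣ :=
  vL.valuationSubring.unitGroup ⊔ (Units.map (algebraMap K L).toMonoidHom).range

/-- the quotient group -/
abbrev GG : Type u := Additive Lˣ ⧸ Subgroup.toAddSubgroup (HH (K := K) vL)

/-- the class map -/
noncomputable def mkG (u : Lˣ) : GG (K := K) vL := QuotientAddGroup.mk (Additive.ofMul u)

lemma mkG_mul (u w : Lˣ) : mkG (K := K) vL (u * w) = mkG (K := K) vL u + mkG (K := K) vL w := rfl

lemma mkG_one : mkG (K := K) vL 1 = 0 := rfl

lemma mkG_inv (u : Lˣ) : mkG (K := K) vL u⁻¹ = - mkG (K := K) vL u := rfl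

lemma mkG_pow (u : Lˣ) (n : ℕ) : mkG (K := K) vL (u ^ n) = n • mkG (K := K) vL u := rfl

lemma mkG_eq_zero_iff (u : Lˣ) : mkG (K := K) vL u = 0 ↔ u ∈ HH (K := K) vL := by
  unfold mkG
  rw [QuotientAddGroup.eq_zero_iff]
  rfl

lemma mem_HH_of_val_eq (u : Lˣ) (c : K) (hc : c ≠ 0) (h : vL (u : L) = vL (algebraMap K L c)) :
    u ∈ HH (K := K) vL := by
  have hc' : algebraMap K L c ≠ 0 := (map_ne_zero_iff _ (algebraMap K L).injective).mpr hc
  let cu : Lˣ := Units.map (algebraMap K L).toMonoidHom (Units.mk0 c hc)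
  have hcu : (cu : L) = algebraMap K L c := rfl
  have h1 : u * cu⁻¹ ∈ vL.valuationSubring.unitGroup := by
    rw [ValuationSubring.mem_unitGroup_iff]
    apply ((Valuation.isEquiv_iff_val_eq_one).mp
      (Valuation.isEquiv_valuation_valuationSubring vL)).mp
    rw [Units.val_mul, map_mul, Units.val_inv_eq_inv_val, map_inv₀, hcu, h]
    exact mul_inv_cancel₀ ((Valuation.ne_zero_iff vL).mpr hc')
  have h2 : cu ∈ (Units.map (algebraMap K L).toMonoidHom).range := ⟨_, rfl⟩
  have : u = (u * cu⁻¹) * cu := by group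
  rw [this]
  exact Subgroup.mul_mem _ (Subgroup.mem_sup_left h1) (Subgroup.mem_sup_right h2)

variable {ι : Type*} (x : ι → Lˣ)

/-- monomials in the `x i` as units -/
noncomputable def monoU (a : ι →₀ ℕ) : Lˣ := a.prod fun i n => x i ^ n

lemma coe_monoU (a : ι →₀ ℕ) : ((monoU x a : Lˣ) : L) = a.prod fun i n => (x i : L) ^ n := by
  unfold monoU Finsupp.prod
  rw [Units.coe_prod]
  simp

lemma mkG_monoU (a : ι →₀ ℕ) :
    mkG (K := K) vL (monoU x a) = Finsupp.linearCombination ℤ (fun i => mkG (K := K) vL (x i))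
      (a.mapRange (Nat.cast : ℕ → ℤ) Nat.cast_zero) := by
  classical
  unfold monoU
  induction a using Finsupp.induction with
  | zero => simp [mkG_one]
  | single_add i n a hi hn ih =>
    rw [Finsupp.prod_add_index' (by simp) (by intro i m n; exact pow_add _ _ _), mkG_mul, ih,
      Finsupp.mapRange_add (by intro a b; exact Nat.cast_add a b), map_add]
    congr 1
    rw [Finsupp.prod_single_index (by simp), mkG_pow, Finsupp.mapRange_single,
      Finsupp.linearCombination_single]
    simp

theorem eq_of_val_eq (hx : LinearIndependent ℤ (fun i => mkG (K := K) vL (x i)))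
    (a a' : ι →₀ ℕ) (c c' : K) (hc : c ≠ 0) (hc' : c' ≠ 0)
    (h : vL ((monoU x a : L) * algebraMap K L c) = vL ((monoU x a' : L) * algebraMap K L c')) :
    a = a' := by
  have hcL : algebraMap K L c ≠ 0 := (map_ne_zero_iff _ (algebraMap K L).injective).mpr hc
  have h1 : vL (((monoU x a * (monoU x a')⁻¹ : Lˣ) : L)) = vL (algebraMap K L (c' / c)) := by
    rw [Units.val_mul, map_mul, Units.val_inv_eq_inv_val, map_inv₀, map_div₀, map_div₀]
    rw [map_mul, map_mul] at h
    have h3 : vL (algebraMap K L c) ≠ 0 := (Valuation.ne_zero_iff vL).mpr hcL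
    have h4 : vL ((monoU x a' : Lˣ) : L) ≠ 0 := (Valuation.ne_zero_iff vL).mpr (Units.ne_zero _)
    field_simp
    rw [h]
  have h2 := mem_HH_of_val_eq (K := K) vL _ (c' / c) (div_ne_zero hc' hc) h1
  rw [← mkG_eq_zero_iff, mkG_mul, mkG_inv, mkG_monoU, mkG_monoU, ← sub_eq_add_neg, ← map_sub] at h2
  have h3 := (linearIndependent_iff.mp hx) _ h2
  rw [sub_eq_zero] at h3
  exact Finsupp.mapRange_injective _ Nat.cast_zero Nat.cast_injective h3

end Groth.Agent.H8.Abh2
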