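import Mathlib
import Groth.Agent.Lib.Helper8.Abh2.Val

/-! Helper8: Abhyankar inequality. -/

set_option autoImplicit false
universe u

namespace Groth.Agent.H8.Abh2

open MvPolynomial IsLocalRing Cardinal

variable {K L Γ₀ Γ₁ : Type u} [Field K] [Field L] [Algebra K L]
    [LinearOrderedCommGroupWithZero Γ₀] [LinearOrderedCommGroupWithZero Γ₁]
    (vK : Valuation K Γ₀) (vL : Valuation L Γ₁) [vK.HasExtension vL]

variable {ι κ : Type*} (x : ι → Lˣ) (y : κ → vL.valuationSubring)

/-- the two-step evaluation -/
noncomputable def evalTwo : MvPolynomial ι (MvPolynomial κ K) →+* L :=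
  eval₂Hom ((aeval (fun j => (y j : L)) : MvPolynomial κ K →ₐ[K] L) : MvPolynomial κ K →+* L)
    (fun i => (x i : L))

lemma evalTwo_sumAlgEquiv (p : MvPolynomial (ι ⊕ κ) K) :
    evalTwo vL x y (sumAlgEquiv K ι κ p) =
      aeval (Sum.elim (fun i => (x i : L)) (fun j => (y j : L))) p := by
  have : (evalTwo vL x y).comp (sumAlgEquiv K ι κ).toAlgHom.toRingHom =
      (aeval (Sum.elim (fun i => (x i : L)) (fun j => (y j : L))) :
        MvPolynomial (ι ⊕ κ) K →ₐ[K] L).toRingHom := by
    apply MvPolynomial.ringHom_ext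
    · intro r
      simp [evalTwo]
    · rintro (i | j)
      · simp [evalTwo]
      · simp [evalTwo]
  exact congrArg (fun φ => φ p) this

lemma evalTwo_eq (Q : MvPolynomial ι (MvPolynomial κ K)) :
    evalTwo vL x y Q = ∑ a ∈ Q.support,
      aeval (fun j => (y j : L)) (coeff a Q) * (monoU x a : L) := by
  unfold evalTwo
  rw [coe_eval₂Hom, eval₂_eq]
  refine Finset.sum_congr rfl fun a _ => ?_
  rw [coe_monoU]
  rfl

theorem algebraicIndependent_sum
    (hx : LinearIndependent ℤ (fun i => mkG (K := K) vL (x i)))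
    (hy : AlgebraicIndependent (ResidueField vK.valuationSubring)
      (fun j => residue vL.valuationSubring (y j))) :
    AlgebraicIndependent K (Sum.elim (fun i => (x i : L)) (fun j => (y j : L))) := by
  classical
  rw [algebraicIndependent_iff]
  intro p hp
  by_contra hp0
  set Q := sumAlgEquiv K ι κ p with hQ
  have hQ0 : Q ≠ 0 := by
    intro h0
    exact hp0 ((sumAlgEquiv K ι κ).injective (by rw [← hQ, h0, map_zero]))
  have hsupp : Q.support.Nonempty := by
    rw [Finset.nonempty_iff_ne_empty, Ne, MvPolynomial.support_eq_empty]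
    exact hQ0
  have hch : ∀ a ∈ Q.support, ∃ c : K, c ≠ 0 ∧
      vL (aeval (fun j => (y j : L)) (coeff a Q)) = vL (algebraMap K L c) := fun a ha =>
    exists_val_aeval_eq vK vL y hy _ (MvPolynomial.mem_support_iff.mp ha)
  have hval : ∀ a ∈ Q.support, ∃ c : K, c ≠ 0 ∧
      vL (aeval (fun j => (y j : L)) (coeff a Q) * (monoU x a : L)) =
        vL ((monoU x a : L) * algebraMap K L c) := by
    intro a ha
    obtain ⟨c, hc, h⟩ := hch a ha
    exact ⟨c, hc, by rw [map_mul, map_mul, h, mul_comm]⟩
  have key := sum_ne_zero_of_injOn vL Q.support hsupp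
    (fun a => aeval (fun j => (y j : L)) (coeff a Q) * (monoU x a : L)) ?_ ?_
  · apply key
    rw [← evalTwo_eq, hQ, evalTwo_sumAlgEquiv]
    exact hp
  · intro a ha
    obtain ⟨c, hc, h⟩ := hval a ha
    rw [h, Valuation.ne_zero_iff]
    exact mul_ne_zero (Units.ne_zero _) ((map_ne_zero_iff _ (algebraMap K L).injective).mpr hc)
  · intro a ha a' ha' h
    obtain ⟨c, hc, h1⟩ := hval a ha
    obtain ⟨c', hc', h2⟩ := hval a' ha'
    simp only at h
    rw [h1, h2] at h
    exact eq_of_val_eq vL x hx a a' c c' hc hc' h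

theorem main :
    Module.rank ℤ (Additive Lˣ ⧸ Subgroup.toAddSubgroup
        (vL.valuationSubring.unitGroup ⊔ (Units.map (algebraMap K L).toMonoidHom).range)) +
      Algebra.trdeg (IsLocalRing.ResidueField vK.valuationSubring)
        (IsLocalRing.ResidueField vL.valuationSubring) ≤ Algebra.trdeg K L := by
  rw [Module.rank_def]
  unfold Algebra.trdeg
  haveI : Nonempty { s : Set (GG (K := K) vL) // LinearIndepOn ℤ id s } :=
    ⟨⟨∅, linearIndepOn_empty _ _⟩⟩
  haveI : Nonempty { s : Set (ResidueField vL.valuationSubring) //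
      AlgebraicIndepOn (ResidueField vK.valuationSubring) id s } :=
    ⟨⟨∅, algebraicIndependent_empty_type⟩⟩
  rw [Cardinal.ciSup_add_ciSup _ bddAbove_of_small _ bddAbove_of_small]
  refine ciSup_le' fun s => ciSup_le' fun t => ?_
  obtain ⟨s, hs⟩ := s
  obtain ⟨t, ht⟩ := t
  have hxch : ∀ i : s, ∃ u : Lˣ, mkG (K := K) vL u = (i : GG (K := K) vL) := by
    intro i
    obtain ⟨u, hu⟩ := QuotientAddGroup.mk_surjective (i : GG (K := K) vL)
    exact ⟨Additive.toMul u, hu⟩
  choose x hx using hxch
  have hych : ∀ j : t, ∃ z : vL.valuationSubring, residue vL.valuationSubring z = (j : _) :=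
    fun j => residue_surjective _
  choose y hy using hych
  have h1 : LinearIndependent ℤ (fun i => mkG (K := K) vL (x i)) := by
    have : (fun i => mkG (K := K) vL (x i)) = fun i : s => (i : GG (K := K) vL) := funext hx
    rw [this]
    exact hs
  have h2 : AlgebraicIndependent (ResidueField vK.valuationSubring)
      (fun j => residue vL.valuationSubring (y j)) := by
    have : (fun j => residue vL.valuationSubring (y j)) =
        fun j : t => (j : ResidueField vL.valuationSubring) := funext hy
    rw [this]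
    exact ht
  have h3 := (algebraicIndependent_sum vK vL x y h1 h2).cardinalMk_le_trdeg
  have h4 : #s + #t ≤ Algebra.trdeg K L := by simpa using h3
  exact h4

end Groth.Agent.H8.Abh2
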